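/-
Siegel transformations as a total function; a matrix of order prime to the characteristic.
-/
import Cfsg.Agent.Lib.Geometry.AutMain
import Mathlib.Algebra.CharP.Lemmas
import Mathlib.LinearAlgebra.Matrix.Charpoly.Coeff
import Mathlib.LinearAlgebra.Matrix.SpecialLinearGroup
import Mathlib.RingTheory.IntegralDomain

set_option autoImplicit false

namespace CfsgLib.Geometry.TwoGen

open QuadraticMap
open scoped MatrixGroups

variable {F V : Type*} [Field F] [AddCommGroup V] [Module F V] {Q : QuadraticForm F V}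

/-- the Siegel transformation where it makes sense -/
noncomputable def sgl (Q : QuadraticForm F V) (e w : V) : V ≃ₗ[F] V :=
  @dite (V ≃ₗ[F] V) (Q e = 0 ∧ polar Q e w = 0) (Classical.dec _) (fun h => siegel Q e w h.1 h.2) (fun _ => 1)

theorem sgl_eq {e w : V} (he : Q e = 0) (hw : polar Q e w = 0) : sgl Q e w = siegel Q e w he hw :=
  dif_pos ⟨he, hw⟩

theorem sgl_mem (e w : V) : sgl Q e w ∈ siegelGroup Q := by
  unfold sgl
  split_ifs with h
  exacts [siegel_mem _ _ _ _, one_mem _]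

theorem sgl_orth (e w : V) : sgl Q e w ∈ orth Q := siegelGroup_le_orth (sgl_mem e w)

theorem sgl_apply {e w : V} (he : Q e = 0) (hw : polar Q e w = 0) (x : V) :
    sgl Q e w x = x + polar Q x e • w - polar Q x w • e - (Q w * polar Q x e) • e := by
  rw [sgl_eq he hw, siegel_apply]

theorem sgl_fix {e w x : V} (h1 : polar Q x e = 0) (h2 : polar Q x w = 0) : sgl Q e w x = x := by
  unfold sgl
  split_ifs with h
  exacts [siegel_eq_self Q e w h.1 h.2 h1 h2, rfl]

theorem sgl_conj {g : V ≃ₗ[F] V} (hg : g ∈ orth Q) (e w : V) :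
    g * sgl Q e w * g⁻¹ = sgl Q (g e) (g w) := by
  unfold sgl
  by_cases h : Q e = 0 ∧ polar Q e w = 0
  · rw [dif_pos h, dif_pos ⟨by rw [mem_orth.1 hg]; exact h.1, by rw [orth_polar hg]; exact h.2⟩]
    exact siegel_conj hg e w h.1 h.2
  · rw [dif_neg h, dif_neg (by rw [mem_orth.1 hg, orth_polar hg]; exact h), mul_one, mul_inv_cancel]

theorem sgl_mul {e w₁ w₂ : V} (he : Q e = 0) (h₁ : polar Q e w₁ = 0) (h₂ : polar Q e w₂ = 0) :
    sgl Q e w₁ * sgl Q e w₂ = sgl Q e (w₁ + w₂) := by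
  rw [sgl_eq he h₁, sgl_eq he h₂, sgl_eq he, siegel_mul]

theorem sgl_zero {e : V} (he : Q e = 0) : sgl Q e 0 = 1 :=
  LinearEquiv.ext fun x => by simp [sgl_apply he (QuadraticMap.polar_zero_right ..), QuadraticMap.polar_zero_right]

theorem sgl_inv {e w : V} (he : Q e = 0) (hw : polar Q e w = 0) : (sgl Q e w)⁻¹ = sgl Q e (-w) :=
  inv_eq_of_mul_eq_one_right (by
    rw [sgl_mul he hw (by rw [polar_neg_right, hw, neg_zero]), add_neg_cancel, sgl_zero he])

theorem sgl_npow {e w : V} (he : Q e = 0) (hw : polar Q e w = 0) :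
    ∀ n : ℕ, sgl Q e w ^ n = sgl Q e ((n : F) • w)
  | 0 => by simp [sgl_zero he]
  | n + 1 => by
    rw [pow_succ, sgl_npow he hw n, sgl_mul he (by rw [polar_smul_right', hw, mul_zero]) hw]
    congr 1
    push_cast
    rw [add_smul, one_smul]

theorem sgl_smul {e w : V} (t : F) (he : Q e = 0) (hw : polar Q e w = 0) :
    sgl Q (t • e) w = sgl Q e (t • w) := by
  rw [sgl_eq (by rw [map_smul', he, mul_zero]) (by rw [polar_smul_left', hw, mul_zero]),
    sgl_eq he (by rw [polar_smul_right', hw, mul_zero]), siegel_smul_left]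

theorem sgl_swap [FiniteDimensional F V] {e w : V} (he : Q e = 0) (hw : Q w = 0) (h : polar Q e w = 0) :
    sgl Q w e = sgl Q e (-w) := by
  rw [sgl_eq hw (by rw [polar_comm, h]), sgl_eq he (by rw [polar_neg_right, h, neg_zero])]
  exact siegel_swap he hw h _ _

/-! ### a matrix of order prime to the characteristic -/

/-- the companion matrix of `X² - c X + 1` -/
def cmat (c : F) : SL(2, F) := ⟨!![0, -1; 1, c], by simp [Matrix.det_fin_two_of]⟩

theorem cmat_span (c : F) : ∀ j : ℕ, ∃ a b : F,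
    ((cmat c ^ j : SL(2, F)) : Matrix (Fin 2) (Fin 2) F) = !![a, -b; b, a + c * b]
  | 0 => ⟨1, 0, by simp [Matrix.one_fin_two]⟩
  | j + 1 => by
    obtain ⟨a, b, e⟩ := cmat_span c j
    refine ⟨-b, a + c * b, ?_⟩
    rw [pow_succ', Matrix.SpecialLinearGroup.coe_mul, e, cmat]
    ext i k
    fin_cases i <;> fin_cases k <;> simp [Matrix.mul_apply, Fin.sum_univ_two] <;> ring

/-- its order is prime to the characteristic -/
theorem cmat_order [Finite F] {c : F} (hc : c * c ≠ 4) (p : ℕ) [CharP F p] [hp : Fact p.Prime] :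
    ∃ N : ℕ, cmat c ^ N = 1 ∧ Nat.Coprime p N := by
  refine ⟨orderOf (cmat c), pow_orderOf_eq_one _, hp.out.coprime_iff_not_dvd.2 fun hd => ?_⟩
  obtain ⟨j, hj⟩ := hd
  have hj0 : 0 < orderOf (cmat c) := orderOf_pos _
  have hne : cmat c ^ j ≠ 1 := by
    refine pow_ne_one_of_lt_orderOf (fun e => by subst e; omega) ?_
    have := hp.out.two_le
    rw [hj]
    nlinarith [Nat.pos_of_ne_zero (show j ≠ 0 by rintro rfl; omega)]
  obtain ⟨a, b, e⟩ := cmat_span c j
  refine hne (Matrix.SpecialLinearGroup.ext _ _ fun i k => ?_)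
  set Z : Matrix (Fin 2) (Fin 2) F := ((cmat c ^ j : SL(2, F)) : Matrix (Fin 2) (Fin 2) F) - 1 with hZ
  have hnil : IsNilpotent Z := ⟨p, by
    rw [hZ, sub_pow_char_of_commute _ (Commute.one_right _), one_pow, ← Matrix.SpecialLinearGroup.coe_pow,
      ← pow_mul, mul_comm, ← hj, pow_orderOf_eq_one, Matrix.SpecialLinearGroup.coe_one, sub_self]⟩
  have ht : Z.trace = 0 := IsNilpotent.eq_zero (Matrix.isNilpotent_trace_of_isNilpotent hnil)
  have hd : Z.det = 0 := by
    obtain ⟨n, hn⟩ := hnil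
    have := congrArg Matrix.det hn
    rw [Matrix.det_pow, Matrix.det_zero] at this
    exact eq_zero_of_pow_eq_zero this
  rw [hZ, e, Matrix.trace_fin_two] at ht
  rw [hZ, e, Matrix.det_fin_two] at hd
  simp at ht hd
  have hb : b = 0 := by
    have h1 : (c * c - 4) * (b * b) = 0 := by linear_combination (2 * (a - 1) + c * b) * ht - 4 * hd
    simpa [sub_eq_zero, hc] using h1
  subst hb
  have ha : a = 1 := sub_eq_zero.1 (mul_self_eq_zero.1 (show (a - 1) * (a - 1) = 0 by linear_combination hd))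
  subst ha
  rw [e]
  fin_cases i <;> fin_cases k <;> simp

/-- the exponent kills every plane on which an element acts by the matrix -/
theorem pow_plane (c : F) (y : V ≃ₗ[F] V) {z₁ z₂ : V} (h1 : y z₁ = z₂) (h2 : y z₂ = -z₁ + c • z₂)
    {N : ℕ} (hN : cmat c ^ N = 1) : (y ^ N) z₁ = z₁ ∧ (y ^ N) z₂ = z₂ := by
  have key : ∀ (n : ℕ) (v : Fin 2 → F), (y ^ n) (v 0 • z₁ + v 1 • z₂) =
      Matrix.mulVec ((cmat c ^ n : SL(2, F)) : Matrix (Fin 2) (Fin 2) F) v 0 • z₁ +
        Matrix.mulVec ((cmat c ^ n : SL(2, F)) : Matrix (Fin 2) (Fin 2) F) v 1 • z₂ := by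
    intro n
    induction n with
    | zero => intro v; simp
    | succ n ih =>
      intro v
      rw [pow_succ, LinearEquiv.mul_apply, map_add, map_smul, map_smul, h1, h2,
        show v 0 • z₂ + v 1 • (-z₁ + c • z₂) = (![-v 1, v 0 + c * v 1] : Fin 2 → F) 0 • z₁ +
          (![-v 1, v 0 + c * v 1] : Fin 2 → F) 1 • z₂ by simp; module,
        ih, pow_succ (cmat c), Matrix.SpecialLinearGroup.coe_mul, ← Matrix.mulVec_mulVec]
      have e : Matrix.mulVec (cmat c : Matrix (Fin 2) (Fin 2) F) v = ![-v 1, v 0 + c * v 1] := by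
        funext i
        fin_cases i <;> simp [cmat, Matrix.mulVec, dotProduct, Fin.sum_univ_two]
      rw [e]
  exact ⟨by simpa [hN] using key N ![1, 0], by simpa [hN] using key N ![0, 1]⟩

/-- a ring generator of the field, not twice a sign -/
theorem exists_ringGen (F : Type*) [Field F] [Finite F] :
    ∃ c : F, c * c ≠ 4 ∧ ∀ R : Subring F, c ∈ R → R = ⊤ := by
  obtain ⟨ω, hω⟩ := IsCyclic.exists_generator (α := Fˣ)
  have gen : ∀ R : Subring F, (ω : F) ∈ R → R = ⊤ := fun R hR => eq_top_iff.2 fun t _ => by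
    rcases eq_or_ne t 0 with rfl | ht
    · exact zero_mem R
    obtain ⟨i, hi⟩ := Submonoid.mem_powers_iff _ _ |>.1
      ((isOfFinOrder_of_finite ω).mem_powers_iff_mem_zpowers.2 (hω (Units.mk0 t ht)))
    rw [show t = (ω : F) ^ i by simpa using (congrArg Units.val hi).symm]
    exact pow_mem hR i
  by_cases h : (ω : F) * ω = 4
  · refine ⟨0, fun h4 => ?_, fun R _ => gen R ?_⟩
    · rw [mul_zero] at h4
      exact mul_ne_zero ω.ne_zero ω.ne_zero (h.trans h4.symm)
    · rcases mul_eq_zero.1 (show ((ω : F) - 2) * ((ω : F) + 2) = 0 by linear_combination h) with e | e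
      · rw [sub_eq_zero.1 e]; exact (ofNat_mem R 2)
      · rw [eq_neg_of_add_eq_zero_left e]; exact neg_mem (ofNat_mem R 2)
  · exact ⟨ω, h, gen⟩

/-- commuting elements of coprime periods are in any subgroup with their product -/
theorem mem_of_mul {G : Type*} [Group G] {H : Subgroup G} {a b : G} (hab : Commute a b) {k l : ℕ}
    (hk : a ^ k = 1) (hl : b ^ l = 1) (hkl : Nat.Coprime k l) (h : a * b ∈ H) : a ∈ H ∧ b ∈ H := by
  obtain ⟨e, he1, he2⟩ := Nat.chineseRemainder hkl 1 0
  have ha : a ∈ H := by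
    have := pow_mem h e
    rwa [hab.mul_pow, pow_eq_pow_mod e hk, he1, ← pow_eq_pow_mod 1 hk, pow_one,
      pow_eq_pow_mod e hl, he2, Nat.zero_mod, pow_zero, mul_one] at this
  refine ⟨ha, ?_⟩
  have := mul_mem (inv_mem ha) h
  rwa [inv_mul_cancel_left] at this

end CfsgLib.Geometry.TwoGen
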