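/-
A hyperbolic family with a complement, and the elements acting monomially on it.
-/
import Cfsg.Agent.Lib.Geometry.TwoGen.Basic
import Cfsg.Agent.Lib.Geometry.ReflectionGen

set_option autoImplicit false

namespace CfsgLib.Geometry.TwoGen

open QuadraticMap Equiv

variable {F V : Type*} [Field F] [AddCommGroup V] [Module F V]

/-- a hyperbolic family, a vector of norm one and a second vector orthogonal to the family -/
structure Data (Q : QuadraticForm F V) (k : ℕ) where
  E : Fin k ⊕ Fin k → V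
  sing : ∀ A, Q (E A) = 0
  pol : ∀ A B, polar Q (E A) (E B) = if B = A.swap then 1 else 0
  v : V
  u : V
  hv : Q v = 1
  pv : ∀ A, polar Q (E A) v = 0
  pu : ∀ A, polar Q (E A) u = 0
  hγ : (2 : F) * Q u ≠ 0 ∨ polar Q u (u - polar Q u v • v) ≠ 0
  dec : ∀ x, x - ∑ A, polar Q x (E A.swap) • E A ∈ Submodule.span F ({u, u - polar Q u v • v} : Set V)

/-- the index -/
def ix {k : ℕ} : Fin k ⊕ Fin k → Fin k := Sum.elim id id

@[simp] lemma ix_inl {k : ℕ} (i : Fin k) : ix (Sum.inl i) = i := rfl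
@[simp] lemma ix_inr {k : ℕ} (i : Fin k) : ix (Sum.inr i) = i := rfl
@[simp] lemma ix_swap {k : ℕ} (A : Fin k ⊕ Fin k) : ix A.swap = ix A := by cases A <;> rfl

lemma ne_of_ix {k : ℕ} {A B : Fin k ⊕ Fin k} (h : ix A ≠ ix B) : B ≠ A.swap ∧ A ≠ B.swap :=
  ⟨fun e => h (by rw [e, ix_swap]), fun e => h (by rw [e, ix_swap])⟩

namespace Data

variable {Q : QuadraticForm F V} {k : ℕ} (D : Data Q k)

lemma pol_zero {A B : Fin k ⊕ Fin k} (h : B ≠ A.swap) : polar Q (D.E A) (D.E B) = 0 := by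
  rw [D.pol, if_neg h]

lemma pol_ix {A B : Fin k ⊕ Fin k} (h : ix A ≠ ix B) : polar Q (D.E A) (D.E B) = 0 :=
  D.pol_zero (ne_of_ix h).1

lemma pol_one (A : Fin k ⊕ Fin k) : polar Q (D.E A) (D.E A.swap) = 1 := by rw [D.pol, if_pos rfl]

lemma pol_self (A : Fin k ⊕ Fin k) : polar Q (D.E A) (D.E A) = 0 := by
  rw [polar_self', D.sing, mul_zero]

/-- orthogonal to the family -/
def Perp (w : V) : Prop := ∀ A, polar Q (D.E A) w = 0

lemma perp_v : D.Perp D.v := D.pv
lemma perp_u : D.Perp D.u := D.pu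

/-- the two transvections of the family -/
noncomputable def tr (i j : Fin k) (t : F) : V ≃ₗ[F] V := sgl Q (D.E (.inl j)) (t • D.E (.inr i))

lemma tr_mem (i j : Fin k) (t : F) : D.tr i j t ∈ siegelGroup Q := sgl_mem _ _

lemma tr_E {i j : Fin k} (h : i ≠ j) (t : F) (A : Fin k ⊕ Fin k) :
    D.tr i j t (D.E A) = D.E A + (if A = .inr j then t • D.E (.inr i) else 0) +
      (if A = .inl i then -t • D.E (.inl j) else 0) := by
  rw [tr, sgl_apply (D.sing _) (by rw [polar_smul_right', D.pol_ix (by simpa using h.symm), mul_zero]),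
    map_smul', D.sing, mul_zero, zero_mul, zero_smul, sub_zero, polar_smul_right', D.pol, D.pol]
  rcases A with a | a <;> by_cases h1 : a = i <;> by_cases h2 : a = j <;>
    simp_all [eq_comm, sub_eq_add_neg, neg_smul]

lemma tr_fix {i j : Fin k} (t : F) {A : Fin k ⊕ Fin k} (h1 : A ≠ .inr j) (h2 : A ≠ .inl i)
    (hij : i ≠ j) : D.tr i j t (D.E A) = D.E A := by
  rw [D.tr_E hij, if_neg h1, if_neg h2, add_zero, add_zero]

lemma tr_perp (i j : Fin k) (t : F) {w : V} (hw : D.Perp w) : D.tr i j t w = w :=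
  sgl_fix (by rw [polar_comm, hw]) (by rw [polar_smul_right', polar_comm, hw, mul_zero])

/-- the monomial element exchanging two indices -/
noncomputable def nn (i j : Fin k) : V ≃ₗ[F] V := D.tr i j (-1) * D.tr j i 1 * D.tr i j (-1)

lemma nn_mem (i j : Fin k) : D.nn i j ∈ siegelGroup Q :=
  mul_mem (mul_mem (D.tr_mem _ _ _) (D.tr_mem _ _ _)) (D.tr_mem _ _ _)

lemma nn_perp (i j : Fin k) {w : V} (hw : D.Perp w) : D.nn i j w = w := by
  simp [nn, LinearEquiv.mul_apply, D.tr_perp _ _ _ hw]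

lemma nn_fix {i j : Fin k} (h : i ≠ j) {A : Fin k ⊕ Fin k} (h1 : ix A ≠ i) (h2 : ix A ≠ j) :
    D.nn i j (D.E A) = D.E A := by
  have a1 : ∀ l, l = i ∨ l = j → A ≠ .inl l ∧ A ≠ .inr l := fun l hl => by
    constructor <;> rintro rfl <;> rcases hl with rfl | rfl <;> simp at h1 h2
  simp only [nn, LinearEquiv.mul_apply]
  rw [D.tr_fix _ (a1 j (Or.inr rfl)).2 (a1 i (Or.inl rfl)).1 h,
    D.tr_fix _ (a1 i (Or.inl rfl)).2 (a1 j (Or.inr rfl)).1 h.symm,
    D.tr_fix _ (a1 j (Or.inr rfl)).2 (a1 i (Or.inl rfl)).1 h]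

lemma nn_vals {i j : Fin k} (h : i ≠ j) :
    D.nn i j (D.E (.inl i)) = D.E (.inl j) ∧ D.nn i j (D.E (.inl j)) = -D.E (.inl i) ∧
      D.nn i j (D.E (.inr i)) = D.E (.inr j) ∧ D.nn i j (D.E (.inr j)) = -D.E (.inr i) := by
  refine ⟨?_, ?_, ?_, ?_⟩ <;>
    simp [nn, LinearEquiv.mul_apply, D.tr_E h, D.tr_E h.symm, h, h.symm, map_add, map_neg]

/-- acts on the family by a permutation and signs -/
def Mono (π : V ≃ₗ[F] V) (f : Fin k ⊕ Fin k → Fin k ⊕ Fin k) : Prop :=
  ∀ A, π (D.E A) = D.E (f A) ∨ π (D.E A) = -D.E (f A)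

lemma Mono.mul {π π' : V ≃ₗ[F] V} {f f' : Fin k ⊕ Fin k → Fin k ⊕ Fin k} {D : Data Q k}
    (h : D.Mono π f) (h' : D.Mono π' f') : D.Mono (π * π') (f ∘ f') := by
  intro A
  rw [LinearEquiv.mul_apply]
  rcases h' A with e | e <;> rcases h (f' A) with e' | e' <;>
    simp [e, e', map_neg, Function.comp_apply]

lemma exists_perm (σ : Perm (Fin k)) : ∃ π ∈ siegelGroup Q, D.Mono π (Sum.map σ σ) ∧
    ∀ w, D.Perp w → π w = w := by
  induction σ using Equiv.Perm.swap_induction_on with
  | one => exact ⟨1, one_mem _, fun A => Or.inl (by cases A <;> simp), fun w _ => rfl⟩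
  | swap_mul σ a b hab ih =>
    obtain ⟨π, hπ, hm, hp⟩ := ih
    refine ⟨D.nn a b * π, mul_mem (D.nn_mem _ _) hπ, ?_, fun w hw => by
      rw [LinearEquiv.mul_apply, hp w hw, D.nn_perp _ _ hw]⟩
    have hn : D.Mono (D.nn a b) (Sum.map (Equiv.swap a b) (Equiv.swap a b)) := by
      intro A
      obtain ⟨n1, n2, n3, n4⟩ := D.nn_vals hab
      rcases A with c | c <;> rcases eq_or_ne c a with rfl | h1
      · exact Or.inl (by rw [n1]; simp)
      · rcases eq_or_ne c b with rfl | h2
        · exact Or.inr (by rw [n2]; simp)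
        · exact Or.inl (by rw [D.nn_fix hab (by simpa using h1) (by simpa using h2)]
                           simp [Equiv.swap_apply_of_ne_of_ne h1 h2])
      · exact Or.inl (by rw [n3]; simp)
      · rcases eq_or_ne c b with rfl | h2
        · exact Or.inr (by rw [n4]; simp)
        · exact Or.inl (by rw [D.nn_fix hab (by simpa using h1) (by simpa using h2)]
                           simp [Equiv.swap_apply_of_ne_of_ne h1 h2])
    have := hn.mul hm
    rwa [show Sum.map (Equiv.swap a b) (Equiv.swap a b) ∘ Sum.map σ σ =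
      Sum.map (Equiv.swap a b * σ) (Equiv.swap a b * σ) from funext fun A => by cases A <;> rfl] at this

/-- the reflection in `v` -/
noncomputable def r : V ≃ₗ[F] V := refl Q D.v (by rw [D.hv]; exact one_ne_zero)

lemma r_apply (x : V) : D.r x = x - polar Q x D.v • D.v := by
  rw [r, refl_apply, D.hv, inv_one, one_mul]

lemma r_E (A : Fin k ⊕ Fin k) : D.r (D.E A) = D.E A := by rw [D.r_apply, D.pv, zero_smul, sub_zero]

lemma r_r (x : V) : D.r (D.r x) = x := by
  have := congrArg (fun g : V ≃ₗ[F] V => g x) (refl_mul_self Q D.v (by rw [D.hv]; exact one_ne_zero))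
  simpa [r] using this

lemma r_perp {w : V} (hw : D.Perp w) : D.Perp (D.r w) := fun A => by
  rw [D.r_apply, polar_sub_right, polar_smul_right', hw, D.pv, mul_zero, sub_zero]

/-- exchanging one pair together with the reflection in `v` -/
lemma exists_flip [Finite F] [FiniteDimensional F V] (hQ : (polarBilin Q).Nondegenerate)
    (hn : 4 ≤ Module.finrank F V) (i : Fin k) : ∃ π ∈ siegelGroup Q,
      D.Mono π (fun A => if ix A = i then A.swap else A) ∧ ∀ w, D.Perp w → π w = D.r w := by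
  set a := D.E (.inl i) + D.E (.inr i)
  have hQa : Q a = 1 := by
    show Q (_ + _) = 1
    rw [map_add', D.sing, D.sing, zero_add, zero_add]
    exact D.pol_one (.inl i)
  have ha : Q a ≠ 0 := by rw [hQa]; exact one_ne_zero
  have hv0 : Q D.v ≠ 0 := by rw [D.hv]; exact one_ne_zero
  obtain ⟨s, hs, hsv⟩ := siegel_trans_norm hQ hn hv0 (hQa.trans D.hv.symm)
  have hsa : refl Q a ha = s * D.r * s⁻¹ := by
    rw [r, refl_conj Q (siegelGroup_le_orth hs)]
    simp only [hsv]
  have hmem : refl Q a ha * D.r ∈ siegelGroup Q := by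
    have hinv : D.r⁻¹ = D.r := inv_eq_of_mul_eq_one_right (refl_mul_self Q D.v hv0)
    rw [hsa, show s * D.r * s⁻¹ * D.r = s * (D.r * s⁻¹ * D.r⁻¹) by rw [hinv]; group]
    exact mul_mem hs (siegelGroup_normal (refl_mem_orth Q _ _) (inv_mem hs))
  refine ⟨_, hmem, fun A => ?_, fun w hw => ?_⟩
  · rw [LinearEquiv.mul_apply, D.r_E, refl_apply, hQa, inv_one, one_mul, polar_add_right, D.pol, D.pol]
    by_cases h : ix A = i
    · simp only [if_pos h]
      rcases A with c | c <;> simp at h <;> subst h <;> simp [a]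
    · simp only [if_neg h]
      rcases A with c | c <;> simp at h <;> simp [h, Ne.symm h]
  · rw [LinearEquiv.mul_apply, refl_apply, hQa, inv_one, one_mul, polar_comm, polar_add_left,
      D.r_perp hw, D.r_perp hw, add_zero, zero_smul, sub_zero]

end Data

end CfsgLib.Geometry.TwoGen
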