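/-
The Siegel group of a hyperbolic family with a small complement is generated by two elements.
-/
import Cfsg.Agent.Lib.Geometry.TwoGen.Elem
import Mathlib.FieldTheory.Finite.Basic

set_option autoImplicit false

namespace CfsgLib.Geometry.TwoGen

open QuadraticMap Equiv

variable {F V : Type*} [Field F] [AddCommGroup V] [Module F V]

namespace Data

variable {Q : QuadraticForm F V}

section

variable {k : ℕ} (D : Data Q k)

lemma ext_family {g h : V ≃ₗ[F] V} (hE : ∀ A, g (D.E A) = h (D.E A))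
    (hu : g D.u = h D.u) (hr : g (D.r D.u) = h (D.r D.u)) : g = h := by
  refine LinearEquiv.ext fun x => ?_
  obtain ⟨a, b, e⟩ := Submodule.mem_span_pair.1 (D.dec x)
  rw [eq_sub_iff_add_eq] at e
  rw [← e, ← D.r_apply]
  simp [map_add, map_smul, map_sum, hE, hu, hr]

lemma r_u_perp : D.Perp (D.r D.u) := D.r_perp D.perp_u

lemma Q_r (w : V) : Q (D.r w) = Q w := mem_orth.1 (refl_mem_orth Q _ _) w

/-- a long root element in a group -/
def Long (H : Subgroup (V ≃ₗ[F] V)) (A B : Fin k ⊕ Fin k) (t : F) : Prop :=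
  sgl Q (D.E A) (t • D.E B) ∈ H

variable {H : Subgroup (V ≃ₗ[F] V)}

lemma sgl_conj_mem {h : V ≃ₗ[F] V} (hh : h ∈ H) (ho : h ∈ orth Q) {e w : V} (hs : sgl Q e w ∈ H) :
    sgl Q (h e) (h w) ∈ H := by
  rw [← sgl_conj ho]
  exact mul_mem (mul_mem hh hs) (inv_mem hh)

lemma long_pol {A B : Fin k ⊕ Fin k} (h : ix A ≠ ix B) (t : F) :
    polar Q (D.E A) (t • D.E B) = 0 := by rw [polar_smul_right', D.pol_ix h, mul_zero]

lemma long_add {A B : Fin k ⊕ Fin k} (h : ix A ≠ ix B) {s t : F} (hs : D.Long H A B s)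
    (ht : D.Long H A B t) : D.Long H A B (s + t) := by
  have := mul_mem hs ht
  rw [sgl_mul (D.sing _) (D.long_pol h s) (D.long_pol h t), ← add_smul] at this
  exact this

lemma long_neg {A B : Fin k ⊕ Fin k} (h : ix A ≠ ix B) {t : F} (ht : D.Long H A B t) :
    D.Long H A B (-t) := by
  have := inv_mem ht
  rw [sgl_inv (D.sing _) (D.long_pol h t), ← neg_smul] at this
  exact this

lemma long_symm [FiniteDimensional F V] {A B : Fin k ⊕ Fin k} (h : ix A ≠ ix B) {t : F}
    (ht : D.Long H A B t) : D.Long H B A t := by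
  have := inv_mem ht
  rw [sgl_inv (D.sing _) (D.long_pol h t),
    ← sgl_swap (D.sing _) (by rw [map_smul', D.sing, mul_zero]) (D.long_pol h t),
    sgl_smul t (D.sing _) (D.pol_ix h.symm)] at this
  exact this

lemma long_mul {A B C : Fin k ⊕ Fin k} (hAB : ix A ≠ ix B) (hAC : ix A ≠ ix C) (hCB : ix C ≠ ix B)
    {s t : F} (ht : D.Long H A C t) (hs : D.Long H C.swap B s) : D.Long H A B (t * s) := by
  have hsw : ix C.swap ≠ ix B := by rwa [ix_swap]
  have hAs : ix A ≠ ix C.swap := by rwa [ix_swap]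
  have h2 := sgl_conj_mem hs (sgl_orth _ _) ht
  rw [sgl_fix (D.pol_ix hAs) (D.long_pol hAB s), map_smul,
    sgl_apply (D.sing _) (D.long_pol hsw s), D.pol_one, one_smul, D.long_pol hCB s, zero_smul,
    sub_zero, map_smul', D.sing, mul_zero, zero_mul, zero_smul, sub_zero, smul_add, smul_smul,
    ← sgl_mul (D.sing _) (D.long_pol hAC t) (D.long_pol hAB _)] at h2
  exact (Subgroup.mul_mem_cancel_left H ht).1 h2

lemma long_step (hH : ∀ A B, ix A ≠ ix B → D.Long H A B 1) {A B C : Fin k ⊕ Fin k}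
    (hAC : ix A ≠ ix C) (hAB : ix A ≠ ix B) (hCB : ix C ≠ ix B) {c : F} (h : D.Long H A C c) :
    D.Long H A B c := by
  simpa using D.long_mul hAB hAC hCB h (hH C.swap B (by rwa [ix_swap]))

/-- the long root subgroups with one parameter are in the group -/
def T (H : Subgroup (V ≃ₗ[F] V)) (t : F) : Prop := ∀ A B, ix A ≠ ix B → D.Long H A B t

lemma long_of_short {H : Subgroup (V ≃ₗ[F] V)} {w w' : V} (hw : D.Perp w) (hw' : D.Perp w')
    (hs : ∀ A, sgl Q (D.E A) w ∈ H) (hs' : ∀ A, sgl Q (D.E A) w' ∈ H) :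
    D.T H (polar Q w' w) := by
  intro A B h
  have h2 := sgl_conj_mem (hs B) (sgl_orth _ _) (hs' A)
  rw [sgl_fix (D.pol_ix h) (hw A), sgl_apply (D.sing _) (hw B), polar_comm Q w' (D.E B), hw' B,
    zero_smul, add_zero, mul_zero, zero_smul, sub_zero, sub_eq_add_neg,
    ← neg_smul, ← sgl_mul (D.sing _) (hw' A) (D.long_pol h _)] at h2
  have := D.long_neg h ((Subgroup.mul_mem_cancel_left H (hs' A)).1 h2)
  rwa [neg_neg] at this

lemma short_smul [FiniteDimensional F V] {A B : Fin k ⊕ Fin k} (h : ix A ≠ ix B)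
    (hL : ∀ t, D.T H t) {w : V} (hw : D.Perp w) (hs : ∀ A, sgl Q (D.E A) w ∈ H) (t : F) :
    sgl Q (D.E A) (t • w) ∈ H := by
  have hs' : ix A ≠ ix B.swap := by rwa [ix_swap]
  have h2 := sgl_conj_mem (hs B.swap) (sgl_orth _ _) (hL t A B h)
  rw [sgl_fix (D.pol_ix hs') (hw A), map_smul, sgl_apply (D.sing _) (hw _), D.pol_one, one_smul,
    hw B, zero_smul, sub_zero, mul_one, smul_sub, smul_add, sub_eq_add_neg, ← neg_smul, smul_smul,
    ← sgl_mul (D.sing _) (by rw [polar_add_right, D.long_pol h, polar_smul_right', hw, mul_zero,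
      add_zero]) (D.long_pol hs' _),
    ← sgl_mul (D.sing _) (D.long_pol h t) (by rw [polar_smul_right', hw, mul_zero]), mul_assoc] at h2
  exact (Subgroup.mul_mem_cancel_right H (hL _ A B.swap hs')).1
    ((Subgroup.mul_mem_cancel_left H (hL t A B h)).1 h2)

end

variable {n : ℕ}

/-- the Siegel group is generated by two elements -/
theorem two_gen [Finite F] [FiniteDimensional F V] (D : Data Q (n + 3)) (hQ : (polarBilin Q).Nondegenerate)
    (hn : 7 ≤ Module.finrank F V) :
    ∃ a b : V ≃ₗ[F] V, a ∈ siegelGroup Q ∧ b ∈ siegelGroup Q ∧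
      Subgroup.closure {a, b} = siegelGroup Q := by
  classical
  haveI := Fintype.ofFinite F
  obtain ⟨p, _⟩ := CharP.exists F
  haveI : Fact p.Prime := ⟨CharP.char_is_prime F p⟩
  obtain ⟨c, hc, hgen⟩ := exists_ringGen F
  obtain ⟨π, hπ, πE, πp⟩ := D.exists_perm (finRotate (n + 3))
  obtain ⟨φ, hφ, φE, φp⟩ := D.exists_flip hQ (by omega) 0
  have h01 : (0 : Fin (n + 3)) ≠ 1 := by simp [Fin.ext_iff]
  have h12 : (1 : Fin (n + 3)) ≠ 2 := by simp [Fin.ext_iff, Nat.mod_eq_of_lt]
  have h02 : (0 : Fin (n + 3)) ≠ 2 := by simp [Fin.ext_iff, Nat.mod_eq_of_lt]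
  have rot : ∀ i : Fin (n + 3), finRotate (n + 3) i = i + 1 := fun i => finRotate_succ_apply i
  set g := π * φ with hg
  have gS : g ∈ siegelGroup Q := mul_mem hπ hφ
  have gE := πE.mul φE
  have gp : ∀ w, D.Perp w → g w = D.r w := fun w hw => by
    rw [hg, LinearEquiv.mul_apply, φp w hw, πp _ (D.r_perp hw)]
  set x := sgl Q (D.E (.inl 0)) D.u with hx
  set y := D.tr 1 2 c * D.nn 1 2 with hy
  have yS : y ∈ siegelGroup Q := mul_mem (D.tr_mem _ _ _) (D.nn_mem _ _)
  have yp : ∀ w, D.Perp w → y w = w := fun w hw => by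
    rw [hy, LinearEquiv.mul_apply, D.nn_perp _ _ hw, D.tr_perp _ _ _ hw]
  have yfix : ∀ A, ix A ≠ 1 → ix A ≠ 2 → y (D.E A) = D.E A := fun A h1 h2 => by
    rw [hy, LinearEquiv.mul_apply, D.nn_fix h12 h1 h2,
      D.tr_fix _ (by rintro rfl; simp at h2) (by rintro rfl; simp at h1) h12]
  obtain ⟨n1, n2, n3, n4⟩ := D.nn_vals h12
  have y1 : y (D.E (.inl 1)) = D.E (.inl 2) := by
    rw [hy, LinearEquiv.mul_apply, n1, D.tr_fix _ (by simp) (by simpa using h12.symm) h12]
  have y2 : y (D.E (.inl 2)) = -D.E (.inl 1) + c • D.E (.inl 2) := by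
    rw [hy, LinearEquiv.mul_apply, n2, map_neg, D.tr_E h12, if_neg (by simp), if_pos rfl]
    module
  have y4 : y (D.E (.inr 2)) = -D.E (.inr 1) := by
    rw [hy, LinearEquiv.mul_apply, n4, map_neg, D.tr_fix _ (by simpa using h12) (by simp) h12]
  have y3 : y (-D.E (.inr 1)) = -D.E (.inr 2) + c • -D.E (.inr 1) := by
    rw [map_neg, hy, LinearEquiv.mul_apply, n3, D.tr_E h12, if_pos rfl, if_neg (by simp)]
    module
  obtain ⟨N, hN, hpN⟩ := cmat_order hc p
  have hxp : x ^ p = 1 := by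
    rw [hx, sgl_npow (D.sing _) (D.pu _), CharP.cast_eq_zero F p, zero_smul, sgl_zero (D.sing _)]
  have hyN : y ^ N = 1 := by
    have hper : ∀ (m : ℕ) (w : V), y w = w → (y ^ m) w = w := fun m w hw => by
      induction m with
      | zero => simp
      | succ m ih => rw [pow_succ, LinearEquiv.mul_apply, hw, ih]
    refine D.ext_family (fun A => ?_) (hper _ _ (yp _ D.perp_u)) (hper _ _ (yp _ D.r_u_perp))
    rw [show (1 : V ≃ₗ[F] V) (D.E A) = D.E A from rfl]
    by_cases hA : ix A = 1 ∨ ix A = 2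
    · have hl := pow_plane c y y1 y2 hN
      have hr := pow_plane c y y4 y3 hN
      have hr2 : (y ^ N) (D.E (.inr 1)) = D.E (.inr 1) := by
        have := hr.2
        rwa [map_neg, neg_inj] at this
      rcases A with i | i <;> rcases hA with h | h <;> simp at h <;> subst h
      exacts [hl.1, hl.2, hr2, hr.1]
    · push Not at hA
      exact hper _ _ (yfix A hA.1 hA.2)
  have hcomm : Commute x y := by
    have := sgl_conj (siegelGroup_le_orth yS) (D.E (.inl 0)) D.u
    rw [yfix _ (by simpa using h01) (by simpa using h02), yp _ D.perp_u, ← hx] at this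
    exact (mul_inv_eq_iff_eq_mul.1 this).symm
  refine ⟨g, x * y, gS, mul_mem (sgl_mem _ _) yS, le_antisymm ((Subgroup.closure_le _).2 ?_) ?_⟩
  · rintro _ (rfl | rfl)
    exacts [gS, mul_mem (sgl_mem _ _) yS]
  set H := Subgroup.closure ({g, x * y} : Set (V ≃ₗ[F] V))
  have gH : g ∈ H := Subgroup.subset_closure (Or.inl rfl)
  obtain ⟨xH, yH⟩ := mem_of_mul hcomm hxp hyN hpN
    (show x * y ∈ H from Subgroup.subset_closure (Or.inr rfl))
  -- short root elements
  set fg := Sum.map (finRotate (n + 3)) (finRotate (n + 3)) ∘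
    (fun A : Fin (n + 3) ⊕ Fin (n + 3) => if ix A = 0 then A.swap else A) with hfg
  have step : ∀ (A : Fin (n + 3) ⊕ Fin (n + 3)) (w : V), D.Perp w → sgl Q (D.E A) w ∈ H →
      sgl Q (D.E (fg A)) (D.r w) ∈ H := by
    intro A w hw h
    have h2 := sgl_conj_mem gH (siegelGroup_le_orth gS) h
    rw [gp w hw] at h2
    rcases gE A with e | e <;> rw [e] at h2
    · exact h2
    · rw [← neg_one_smul F, sgl_smul _ (D.sing _) (D.r_perp hw _), neg_one_smul,
        ← sgl_inv (D.sing _) (D.r_perp hw _)] at h2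
      exact (inv_mem_iff).1 h2
  let P : Fin (n + 3) ⊕ Fin (n + 3) → Prop := fun A =>
    sgl Q (D.E A) D.u ∈ H ∧ sgl Q (D.E A) (D.r D.u) ∈ H
  have pstep : ∀ A, P A → P (fg A) := fun A hA =>
    ⟨by have := step A _ D.r_u_perp hA.2; rwa [D.r_r] at this, step A _ D.perp_u hA.1⟩
  have f1 : fg (.inl 0) = .inr 1 := by simp [hfg, rot]
  have f2 : fg (.inr 0) = .inl 1 := by simp [hfg, rot]
  have f3 : ∀ i : Fin (n + 3), i ≠ 0 → fg (.inr i) = .inr (i + 1) ∧ fg (.inl i) = .inl (i + 1) :=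
    fun i hi => by simp [hfg, rot, hi]
  have base : P (.inr 1) := by
    have a1 := step _ _ D.perp_u xH
    rw [f1] at a1
    have a2 := step _ _ D.r_u_perp a1
    rw [D.r_r, (f3 1 h01.symm).1, show (1 : Fin (n + 3)) + 1 = 2 from rfl] at a2
    have a3 := sgl_conj_mem yH (siegelGroup_le_orth yS) a2
    rw [y4, yp _ D.perp_u, ← neg_one_smul F, sgl_smul _ (D.sing _) (D.pu _), neg_one_smul,
      ← sgl_inv (D.sing _) (D.pu _)] at a3
    exact ⟨inv_mem_iff.1 a3, a1⟩
  have orbit : ∀ (sd : Fin (n + 3) → Fin (n + 3) ⊕ Fin (n + 3)),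
      (∀ i, i ≠ 0 → fg (sd i) = sd (i + 1)) → P (sd 1) → ∀ i, P (sd i) := by
    intro sd hsd h1
    have hs : ∀ i : Fin (n + 2), P (sd i.succ) := by
      intro i
      induction i using Fin.induction with
      | zero => rw [Fin.succ_zero_eq_one]; exact h1
      | succ j ih =>
        have := pstep _ ih
        rw [hsd _ (Fin.succ_ne_zero _)] at this
        convert this using 2
        rw [← Fin.coeSucc_eq_succ, Fin.succ_castSucc]
    intro i
    induction i using Fin.cases with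
    | zero =>
      have := pstep _ (hs (Fin.last (n + 1)))
      rwa [hsd _ (Fin.succ_ne_zero _), Fin.succ_last, Fin.last_add_one] at this
    | succ j => exact hs j
  have allP : ∀ A, P A := by
    have hr := orbit Sum.inr (fun i hi => (f3 i hi).1) base
    have hl := orbit Sum.inl (fun i hi => (f3 i hi).2) (f2 ▸ pstep _ (hr 0))
    rintro (i | i)
    exacts [hl i, hr i]
  have hu : ∀ A, sgl Q (D.E A) D.u ∈ H := fun A => (allP A).1
  have hru : ∀ A, sgl Q (D.E A) (D.r D.u) ∈ H := fun A => (allP A).2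
  -- long root elements
  have T0 : D.T H 0 := fun A B _ => by
    rw [Long, zero_smul, sgl_zero (D.sing _)]
    exact one_mem _
  have Tadd : ∀ s t, D.T H s → D.T H t → D.T H (s + t) := fun s t hs ht A B h =>
    D.long_add h (hs A B h) (ht A B h)
  have Tneg : ∀ t, D.T H t → D.T H (-t) := fun t ht A B h => D.long_neg h (ht A B h)
  have third : ∀ A B : Fin (n + 3) ⊕ Fin (n + 3),
      ∃ C : Fin (n + 3) ⊕ Fin (n + 3), ix A ≠ ix C ∧ ix C ≠ ix B := by
    intro A B
    obtain ⟨i, -, hi⟩ := Finset.exists_mem_notMem_of_card_lt_card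
      (s := ({ix A, ix B} : Finset (Fin (n + 3)))) (t := Finset.univ)
      (lt_of_le_of_lt Finset.card_le_two (by simp))
    simp at hi
    exact ⟨.inl i, Ne.symm hi.1, hi.2⟩
  have Tmul : ∀ s t, D.T H s → D.T H t → D.T H (s * t) := fun s t hs ht A B h => by
    obtain ⟨C, hC1, hC2⟩ := third A B
    exact D.long_mul h hC1 hC2 (hs A C hC1) (ht C.swap B (by rwa [ix_swap]))
  obtain ⟨γ, hγ, hγT⟩ : ∃ γ : F, γ ≠ 0 ∧ D.T H γ := by
    rcases D.hγ with h | h
    · exact ⟨_, h, (polar_self' (Q := Q) D.u).symm ▸ D.long_of_short D.perp_u D.perp_u hu hu⟩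
    · rw [← D.r_apply] at h
      exact ⟨_, h, D.long_of_short D.r_u_perp D.perp_u hru hu⟩
  have T1 : D.T H 1 := by
    have hpow : ∀ m : ℕ, D.T H (γ ^ (m + 1)) := fun m => by
      induction m with
      | zero => simpa using hγT
      | succ m ih => rw [pow_succ]; exact Tmul _ _ ih hγT
    have hq := FiniteField.pow_card_sub_one_eq_one γ hγ
    have h2 : 1 < Fintype.card F := Fintype.one_lt_card
    have := hpow (Fintype.card F - 2)
    rwa [show Fintype.card F - 2 + 1 = Fintype.card F - 1 by omega, hq] at this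
  have ctr : D.tr 1 2 c ∈ H := by
    have hnn : D.nn 1 2 ∈ H := mul_mem (mul_mem (Tneg 1 T1 _ _ (by simpa using h12.symm))
      (T1 _ _ (by simpa using h12))) (Tneg 1 T1 _ _ (by simpa using h12.symm))
    exact (Subgroup.mul_mem_cancel_right H hnn).1 yH
  have Tc : D.T H c := by
    have base : D.Long H (.inl 2) (.inr 1) c := ctr
    have right : ∀ {A B B' : Fin (n + 3) ⊕ Fin (n + 3)}, ix A ≠ ix B → ix A ≠ ix B' →
        D.Long H A B c → D.Long H A B' c := by
      intro A B B' h h' hB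
      by_cases he : ix B = ix B'
      · obtain ⟨C, hC1, hC2⟩ := third A B
        exact D.long_step T1 hC1 h' (he ▸ hC2) (D.long_step T1 h hC1 hC2.symm hB)
      · exact D.long_step T1 h h' he hB
    intro A B h
    obtain ⟨C, hC1, hC2⟩ := third (.inl 2) A
    have s1 := D.long_symm hC1 (right (by simpa using h12.symm) hC1 base)
    have s2 := D.long_symm hC2 (right hC1.symm hC2 s1)
    exact right hC2.symm h s2
  let R : Subring F :=
    { carrier := {t | D.T H t}
      mul_mem' := fun {a b} => Tmul a b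
      one_mem' := T1
      add_mem' := fun {a b} => Tadd a b
      zero_mem' := T0
      neg_mem' := fun {a} => Tneg a }
  have allT : ∀ t, D.T H t := fun t =>
    show t ∈ R by rw [hgen R Tc]; exact Subring.mem_top t
  -- the radicals
  have rad : ∀ A w, polar Q (D.E A) w = 0 → polar Q (D.E A.swap) w = 0 →
      sgl Q (D.E A) w ∈ H := by
    intro A w hw hw'
    let M : AddSubgroup V :=
      { carrier := {w | polar Q (D.E A) w = 0 ∧ sgl Q (D.E A) w ∈ H}
        zero_mem' := ⟨QuadraticMap.polar_zero_right .., by rw [sgl_zero (D.sing _)]; exact one_mem _⟩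
        add_mem' := fun {a b} ha hb => ⟨by rw [polar_add_right, ha.1, hb.1, add_zero], by
          rw [← sgl_mul (D.sing _) ha.1 hb.1]; exact mul_mem ha.2 hb.2⟩
        neg_mem' := fun {a} ha => ⟨by rw [polar_neg_right, ha.1, neg_zero], by
          rw [← sgl_inv (D.sing _) ha.1]; exact inv_mem ha.2⟩ }
    obtain ⟨B, hB, -⟩ := third A A
    obtain ⟨a, b, e⟩ := Submodule.mem_span_pair.1 (D.dec w)
    rw [eq_sub_iff_add_eq] at e
    suffices w ∈ M from this.2
    rw [← e, ← D.r_apply]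
    refine add_mem (add_mem ⟨by rw [polar_smul_right', D.pu, mul_zero], D.short_smul hB allT D.perp_u hu a⟩
      ⟨by rw [polar_smul_right', D.r_u_perp, mul_zero], D.short_smul hB allT D.r_u_perp hru b⟩)
      (sum_mem fun C _ => ?_)
    rcases eq_or_ne (ix A) (ix C) with h | h
    · suffices polar Q w (D.E C.swap) = 0 by rw [this, zero_smul]; exact zero_mem M
      rw [polar_comm]
      rcases A with i | i <;> rcases C with j | j <;> simp at h <;> subst h <;> assumption
    · exact ⟨D.long_pol h _, allT _ A C h⟩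
  refine siegelGroup_le_of_pair hQ (D.sing (.inl 0)) (D.sing (.inr 0)) (D.pol_one (.inl 0)) hn H
    (fun w hw => ?_) fun w hw => ?_
  · rw [← sgl_eq (D.sing _) (mem_pairPerp.1 hw).1]
    exact rad _ w (mem_pairPerp.1 hw).1 (mem_pairPerp.1 hw).2
  · rw [← sgl_eq (D.sing _) (mem_pairPerp.1 hw).2]
    exact rad _ w (mem_pairPerp.1 hw).2 (mem_pairPerp.1 hw).1

end Data

/-- two generators of the Siegel group give two generators of `Ω` -/
theorem omega_two_gen [Finite F] [FiniteDimensional F V] {Q : QuadraticForm F V}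
    (hQ : (polarBilin Q).Nondegenerate) (hn : 5 ≤ Module.finrank F V)
    (h : ∃ a b : V ≃ₗ[F] V, a ∈ siegelGroup Q ∧ b ∈ siegelGroup Q ∧
      Subgroup.closure {a, b} = siegelGroup Q) :
    ∃ a b : commutator (orth Q), Subgroup.closure ({a, b} : Set (commutator (orth Q))) = ⊤ := by
  obtain ⟨a, b, ha, hb, hab⟩ := h
  have hn4 : Module.finrank F V ≠ 4 ∨ ∃ a : F, a ≠ 0 ∧ a ≠ 1 := Or.inl (by omega)
  have hC := commutator_eq_siegel hQ (by omega) (splitSingular_of hQ hn4) (reflGroup_eq_orth hQ hn4)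
  have hmem : ∀ x : orth Q, x ∈ commutator (orth Q) ↔ (x : V ≃ₗ[F] V) ∈ siegelGroup Q := fun x => by
    rw [hC, Subgroup.mem_subgroupOf]
  let a' : commutator (orth Q) := ⟨⟨a, siegelGroup_le_orth ha⟩, (hmem _).2 ha⟩
  let b' : commutator (orth Q) := ⟨⟨b, siegelGroup_le_orth hb⟩, (hmem _).2 hb⟩
  refine ⟨a', b', eq_top_iff.2 fun z _ => ?_⟩
  let φ : commutator (orth Q) →* (V ≃ₗ[F] V) := (orth Q).subtype.comp (commutator (orth Q)).subtype
  have hz : φ z ∈ (Subgroup.closure ({a', b'} : Set (commutator (orth Q)))).map φ := by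
    rw [MonoidHom.map_closure, Set.image_pair]
    exact hab.symm.le ((hmem _).1 z.2)
  obtain ⟨z', hz', e⟩ := hz
  obtain rfl : z' = z := Subtype.ext (Subtype.ext e)
  exact hz'

end CfsgLib.Geometry.TwoGen
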