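/-
The standard odd and minus forms.
-/
import Cfsg.Agent.Lib.Geometry.TwoGen.Main
import Cfsg.Agent.Lib.Geometry.POmegaStd

set_option autoImplicit false

namespace CfsgLib.Geometry.TwoGen

open QuadraticMap

variable {F : Type*} [Field F] [Finite F]

omit [Finite F] in
theorem polar_odd (m : ℕ) (x y : Unit ⊕ (Fin m ⊕ Fin m) → F) :
    polar (matQuad (oddMat m F)) x y = 2 * (x (.inl ()) * y (.inl ())) +
      ∑ i, (x (.inr (.inl i)) * y (.inr (.inr i)) + y (.inr (.inl i)) * x (.inr (.inr i))) := by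
  simp only [polar, coe_matQuad_odd, Cfsg.quadFormOdd, Pi.add_apply, add_mul, mul_add,
    Finset.sum_add_distrib]
  ring

omit [Finite F] in
theorem polar_odd_single (m : ℕ) (A : Fin m ⊕ Fin m) (x : Unit ⊕ (Fin m ⊕ Fin m) → F) :
    polar (matQuad (oddMat m F)) (Pi.single (.inr A) 1) x = x (.inr A.swap) := by
  rw [polar_odd]
  rcases A with i | i <;> simp [Pi.single_apply]

/-- the family of the odd form -/
noncomputable def oddData (m : ℕ) (h2 : (2 : F) ≠ 0) : Data (matQuad (oddMat m F)) m where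
  E A := Pi.single (.inr A) 1
  sing A := by
    rw [coe_matQuad_odd]
    rcases A with i | i <;> simp [Cfsg.quadFormOdd, Pi.single_apply]
  pol A B := by rw [polar_odd_single, Pi.single_apply]; simp [eq_comm]
  v := Pi.single (.inl ()) 1
  u := Pi.single (.inl ()) 1
  hv := by simp [coe_matQuad_odd, Cfsg.quadFormOdd, Pi.single_apply]
  pv A := by rw [polar_odd_single]; simp [Pi.single_apply]
  pu A := by rw [polar_odd_single]; simp [Pi.single_apply]
  hγ := Or.inl (by simp [coe_matQuad_odd, Cfsg.quadFormOdd, Pi.single_apply, h2])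
  dec x := by
    refine Submodule.mem_span_pair.2 ⟨x (.inl ()), 0, ?_⟩
    rw [zero_smul, add_zero]
    simp only [polar_comm (matQuad (oddMat m F)) x, polar_odd_single, Sum.swap_swap]
    funext j
    rcases j with ⟨⟩ | (i | i) <;> simp [Pi.single_apply, Finset.sum_apply]

omit [Finite F] in
theorem polar_minus (m : ℕ) (a b : F) (x y : (Fin m ⊕ Fin m) ⊕ Fin 2 → F) :
    polar (matQuad (minusMat m F a b)) x y =
      (∑ i, (x (.inl (.inl i)) * y (.inl (.inr i)) + y (.inl (.inl i)) * x (.inl (.inr i)))) +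
      (2 * (x (.inr 0) * y (.inr 0)) + a * (x (.inr 0) * y (.inr 1) + x (.inr 1) * y (.inr 0)) +
        2 * b * (x (.inr 1) * y (.inr 1))) := by
  simp only [polar, coe_matQuad_minus, Cfsg.quadFormMinus, Pi.add_apply, add_mul, mul_add,
    Finset.sum_add_distrib]
  ring

omit [Finite F] in
theorem polar_minus_single (m : ℕ) (a b : F) (A : Fin m ⊕ Fin m)
    (x : (Fin m ⊕ Fin m) ⊕ Fin 2 → F) :
    polar (matQuad (minusMat m F a b)) (Pi.single (.inl A) 1) x = x (.inl A.swap) := by
  rw [polar_minus]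
  rcases A with i | i <;> simp [Pi.single_apply]

theorem exists_minusData (m : ℕ) {a b : F}
    (hab : ∀ z₁ z₂ : F, z₁ ^ 2 + a * z₁ * z₂ + b * z₂ ^ 2 = 0 → z₁ = 0 ∧ z₂ = 0) :
    Nonempty (Data (matQuad (minusMat m F a b)) m) := by
  obtain ⟨s, hd, hQu⟩ : ∃ s : F, 2 * s + a ≠ 0 ∧ ((2 : F) = 0 → s = 0) := by
    by_cases h : a = 0
    · have h2 : (2 : F) ≠ 0 := fun h2 => (binAniso_discr hab).1 (by
        linear_combination (2 * b) * h2 - a * h)
      exact ⟨1, by rw [h, mul_one, add_zero]; exact h2, fun e => absurd e h2⟩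
    · exact ⟨0, by rwa [mul_zero, zero_add], fun _ => rfl⟩
  let u : (Fin m ⊕ Fin m) ⊕ Fin 2 → F := s • Pi.single (.inr 0) 1 + Pi.single (.inr 1) 1
  have hpuv : polar (matQuad (minusMat m F a b)) u (Pi.single (.inr 0) 1) = 2 * s + a := by
    rw [polar_minus]
    simp [u, Pi.single_apply]
  refine ⟨{ E := fun A => Pi.single (.inl A) 1
            v := Pi.single (.inr 0) 1
            u := u
            sing := fun A => ?_
            pol := fun A B => by rw [polar_minus_single, Pi.single_apply]; simp [eq_comm]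
            hv := by simp [coe_matQuad_minus, Cfsg.quadFormMinus, Pi.single_apply]
            pv := fun A => by rw [polar_minus_single]; simp [Pi.single_apply]
            pu := fun A => by rw [polar_minus_single]; simp [u, Pi.single_apply]
            hγ := ?_
            dec := fun x => ?_ }⟩
  · rw [coe_matQuad_minus]
    rcases A with i | i <;> simp [Cfsg.quadFormMinus, Pi.single_apply]
  · by_cases h2 : (2 : F) = 0
    · right
      rw [hpuv, polar_minus]
      simp [u, Pi.single_apply, hQu h2, h2]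
      intro h0
      exact hd (by rw [h2, h0]; ring)
    · left
      refine mul_ne_zero h2 fun h0 => one_ne_zero (hab s 1 ?_).2
      rw [← h0, coe_matQuad_minus]
      simp [u, Cfsg.quadFormMinus, Pi.single_apply]
  · obtain ⟨T, hT⟩ : ∃ T : F, T * (2 * s + a) = s * x (.inr 1) - x (.inr 0) :=
      ⟨_, div_mul_cancel₀ _ hd⟩
    refine Submodule.mem_span_pair.2 ⟨x (.inr 1) - T, T, ?_⟩
    simp only [hpuv, polar_comm (matQuad (minusMat m F a b)) x, polar_minus_single, Sum.swap_swap]
    funext j
    rcases j with (i | i) | j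
    · simp [u, Pi.single_apply, Finset.sum_apply]
    · simp [u, Pi.single_apply, Finset.sum_apply]
    · fin_cases j <;> simp [u, Pi.single_apply, Finset.sum_apply]
      linear_combination -hT

theorem odd_two_gen (h2 : (2 : F) ≠ 0) (m : ℕ) (hm : 3 ≤ m) :
    ∃ a b : commutator (orth (matQuad (oddMat m F))),
      Subgroup.closure ({a, b} : Set (commutator (orth (matQuad (oddMat m F))))) = ⊤ := by
  obtain ⟨n, rfl⟩ := Nat.exists_eq_add_of_le' hm
  have hQ := nondegenerate_matQuad (M := oddMat (n + 3) F) (by rw [det_odd_gram]; simp [h2])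
  exact omega_two_gen hQ (by simp; omega) ((oddData (n + 3) h2).two_gen hQ (by simp; omega))

theorem minus_two_gen (m : ℕ) (hm : 3 ≤ m) {a b : F}
    (hab : ∀ z₁ z₂ : F, z₁ ^ 2 + a * z₁ * z₂ + b * z₂ ^ 2 = 0 → z₁ = 0 ∧ z₂ = 0) :
    ∃ g h : commutator (orth (matQuad (minusMat m F a b))),
      Subgroup.closure ({g, h} : Set (commutator (orth (matQuad (minusMat m F a b))))) = ⊤ := by
  obtain ⟨n, rfl⟩ := Nat.exists_eq_add_of_le' hm
  have hQ := nondegenerate_matQuad (M := minusMat (n + 3) F a b) (by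
    rw [det_minus_gram]
    exact mul_ne_zero (pow_ne_zero _ (neg_ne_zero.2 one_ne_zero)) (binAniso_discr hab).1)
  obtain ⟨D⟩ := exists_minusData (n + 3) hab
  exact omega_two_gen hQ (by simp; omega) (D.two_gen hQ (by simp; omega))

end CfsgLib.Geometry.TwoGen
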